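import Mathlib
import Cfsg.Prelude.Def_Sporadic
import Cfsg.Agent.H54.J4.Lower
import Cfsg.Agent.H96.J4Irr.Main
import Cfsg.Agent.H96.J4Irr.Perm

/-!
Simplicity of the presented fourth Janko group from its order and the cover of the cosets of the
subgroup generated by x, y and s by seven orbits with the known bounds on their sizes.
-/

set_option autoImplicit false
set_option maxRecDepth 100000
set_option maxHeartbeats 400000

namespace H96.J4Simple

open H54.J4 H54.J4.Lower H54.J4.Rep

/-- the presented group -/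
abbrev G4 : Type := PresentedGroup jRels

/-- bounds on the sizes of the seven orbits -/
def dsize : Fin 7 → ℕ := ![1, 15180, 28336, 3400320, 32643072, 54405120, 82575360]

theorem sums_ok : ∀ S : Finset (Fin 7), (∑ i ∈ S, dsize i) ∣ 173067389 →
    (∑ i ∈ S, dsize i) = 1 ∨ (∑ i ∈ S, dsize i) = 173067389 := by decide +kernel

theorem dsize_sum : ∑ i, dsize i = 173067389 := by decide +kernel

section General

variable {G : Type*} [Group G]

theorem card_mul_of_le {N H : Subgroup G} (h : N ≤ H) :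
    Nat.card N * Nat.card ((QuotientGroup.mk : G → G ⧸ N) '' H) = Nat.card H := by
  rw [← Nat.card_prod, ← Nat.card_congr (QuotientGroup.preimageMkEquivSubgroupProdSet N _)]
  apply Nat.card_congr
  refine Equiv.setCongr ?_
  ext g
  constructor
  · rintro ⟨a, ha, he⟩
    have := mul_mem ha (h (QuotientGroup.eq.mp he))
    simpa using this
  · exact fun hg => ⟨g, hg, rfl⟩

theorem card_union {X ι : Type*} [Fintype ι] [Finite X] (O : ι → Set X) (d : ι → ℕ)
    (hc : ∀ x, ∃ i, x ∈ O i) (hb : ∀ i, Nat.card (O i) ≤ d i) (ht : ∑ i, d i = Nat.card X)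
    (A : Set X) (S : Finset ι) (hS : ∀ i ∈ S, O i ⊆ A) (hA : ∀ x ∈ A, ∃ i ∈ S, x ∈ O i) :
    Nat.card A = ∑ i ∈ S, d i := by
  classical
  let f : (Σ i, O i) → X := fun p => p.2.1
  have hf : Function.Surjective f := fun x => by
    obtain ⟨i, hi⟩ := hc x; exact ⟨⟨i, x, hi⟩, rfl⟩
  have h1 := Nat.card_le_card_of_surjective f hf
  have hle : ∑ i, Nat.card (O i) ≤ ∑ i, d i := Finset.sum_le_sum fun i _ => hb i
  have he : Nat.card (Σ i, O i) = ∑ i, Nat.card (O i) := Nat.card_sigma
  have hsum : ∑ i, Nat.card (O i) = ∑ i, d i := by omega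
  have heq : ∀ i, Nat.card (O i) = d i := by
    by_contra hne
    push Not at hne
    obtain ⟨j, hj⟩ := hne
    exact absurd hsum (Finset.sum_lt_sum (fun i _ => hb i)
      ⟨j, Finset.mem_univ _, lt_of_le_of_ne (hb j) hj⟩).ne
  have hbij : Function.Bijective f :=
    (Nat.bijective_iff_surjective_and_card f).mpr ⟨hf, by omega⟩
  let g : (Σ i : S, O i.1) → A := fun p => ⟨p.2.1, hS _ p.1.2 p.2.2⟩
  have hg : Function.Bijective g := by
    refine ⟨fun p q h => ?_, fun x => ?_⟩
    · have e : (⟨p.1.1, p.2⟩ : Σ i, O i) = ⟨q.1.1, q.2⟩ := hbij.1 (congrArg Subtype.val h)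
      obtain ⟨⟨i, hi⟩, v⟩ := p
      obtain ⟨⟨j, hj⟩, w⟩ := q
      simp only [Sigma.mk.injEq] at e
      obtain ⟨rfl, e⟩ := e
      rw [eq_of_heq e]
    · obtain ⟨i, hi, hx⟩ := hA x.1 x.2
      exact ⟨⟨⟨i, hi⟩, x.1, hx⟩, rfl⟩
  rw [← Nat.card_congr (Equiv.ofBijective g hg), Nat.card_sigma]
  simp only [heq]
  exact Finset.sum_coe_sort S d

theorem card_sup_normal (K M : Subgroup G) [K.Normal] (h : K ⊓ M = ⊥) :
    Nat.card ↥(K ⊔ M) = Nat.card K * Nat.card M :=
  card_sup K M (by rw [Subgroup.normalizer_eq_top]; exact le_top) h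

theorem le_of_mem_ker {K : Subgroup G} [K.Normal] {a t : G} {k : ℕ} (hk : k.Coprime 2)
    (ha : a ∈ K) (ht : t ^ 2 = 1) {c : G} (h : (a * (c⁻¹ * t * c)) ^ k = 1) : t ∈ K := by
  rw [← QuotientGroup.eq_one_iff]
  have h2 : (t : G ⧸ K) ^ 2 = 1 := by rw [← QuotientGroup.mk_pow, ht, QuotientGroup.mk_one]
  have hk' : (t : G ⧸ K) ^ k = 1 := by
    have e := congrArg (QuotientGroup.mk' K) h
    rw [map_pow, map_mul, map_mul, map_mul, map_one, map_inv,
      show QuotientGroup.mk' K a = 1 from (QuotientGroup.eq_one_iff a).mpr ha, one_mul] at e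
    have e2 : ((QuotientGroup.mk' K c)⁻¹ * QuotientGroup.mk' K t *
        ((QuotientGroup.mk' K c)⁻¹)⁻¹) ^ k = 1 := by rwa [inv_inv]
    rwa [conj_pow, mul_inv_eq_one, mul_eq_left] at e2
  exact orderOf_eq_one_iff.mp (Nat.eq_one_of_dvd_coprimes hk.symm
    (orderOf_dvd_of_pow_eq_one h2) (orderOf_dvd_of_pow_eq_one hk'))

end General

/-- the three generators generate -/
theorem closure_top : Subgroup.closure ({J4Irr.gx, J4Irr.gy, J4Irr.gt} : Set G4) = ⊤ := by
  rw [eq_top_iff, ← PresentedGroup.closure_range_of, Subgroup.closure_le]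
  rintro _ ⟨g, rfl⟩
  apply Subgroup.subset_closure
  cases g <;> simp

theorem normal_eq_top (K : Subgroup G4) [K.Normal] (hx : J4Irr.gx ∈ K) (hy : J4Irr.gy ∈ K) :
    K = ⊤ := by
  have e2 := j_rel (r := Cfsg.Spor.J4.t ^ 2) (by simp [Cfsg.Spor.J4.extra])
  rw [map_pow] at e2
  have e3 := j_rel (r := (Cfsg.Spor.J4.y * ((Cfsg.Spor.J4.y * Cfsg.Spor.J4.x *
    (Cfsg.Spor.J4.y⁻¹) * Cfsg.Spor.J4.x * Cfsg.Spor.J4.y * Cfsg.Spor.J4.x * (Cfsg.Spor.J4.y⁻¹) *
    Cfsg.Spor.J4.x)⁻¹ * Cfsg.Spor.J4.t * (Cfsg.Spor.J4.y * Cfsg.Spor.J4.x * (Cfsg.Spor.J4.y⁻¹) *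
    Cfsg.Spor.J4.x * Cfsg.Spor.J4.y * Cfsg.Spor.J4.x * (Cfsg.Spor.J4.y⁻¹) * Cfsg.Spor.J4.x))) ^ 3)
    (by simp [Cfsg.Spor.J4.extra])
  rw [map_pow, map_mul, map_mul (PresentedGroup.mk jRels) (_⁻¹ * _), map_mul (PresentedGroup.mk jRels) (_⁻¹),
    map_inv] at e3
  have ht : J4Irr.gt ∈ K := le_of_mem_ker (by norm_num) hy e2 e3
  rw [eq_top_iff, ← closure_top, Subgroup.closure_le]
  rintro g (rfl | rfl | rfl) <;> assumption

section

variable (hcard : Nat.card G4 = 86775571046077562880)

include hcard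

theorem finite_G4 : Finite G4 := Nat.finite_of_card_ne_zero (by rw [hcard]; norm_num)

theorem rho_inj : Function.Injective rho := by
  have := finite_G4 hcard
  have h1 := Subgroup.card_range_dvd rho
  rw [hcard] at h1
  have h2 : Nat.card rho.range = 86775571046077562880 := Nat.dvd_antisymm h1 dvd_card_range
  have hb : Function.Bijective rho.rangeRestrict :=
    (Nat.bijective_iff_surjective_and_card _).mpr
      ⟨rho.rangeRestrict_surjective, hcard.trans h2.symm⟩
  exact fun a b e => hb.1 (Subtype.ext e)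

theorem card_jN : Nat.card jN = 2048 * 244823040 := by
  rw [← card_map_jN, Subgroup.card_map_of_injective (rho_inj hcard)]

omit hcard in
theorem toJ_range_le : toJ.range ≤ jN := by
  rw [range_toJ, jN]
  exact Subgroup.map_mono (Subgroup.closure_mono (by simp [Set.insert_subset_iff]))

omit hcard in
theorem card_toJ_range : Nat.card toJ.range = 244823040 := by
  rw [← Nat.card_congr (MonoidHom.ofInjective toJ_injective).toEquiv,
    Nat.card_congr presEquiv.toEquiv, H90.natCard_M24]

/-- the normal subgroup of order 2^11 of the subgroup generated by x, y and s -/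
noncomputable def vJ : Subgroup G4 := (vSub eU 11).comap rho

omit hcard in
theorem vSub_le_map : vSub eU 11 ≤ jN.map rho := by
  rw [map_jN]
  exact vSub_le 11 le_rfl fun i hi => eU_mem hi

theorem vJ_le : vJ ≤ jN :=
  (Subgroup.comap_mono vSub_le_map).trans_eq (Subgroup.comap_map_eq_self_of_injective (rho_inj hcard) _)

theorem card_vJ : Nat.card vJ = 2048 := by
  have e : vJ.map rho = vSub eU 11 :=
    Subgroup.map_comap_eq_self (vSub_le_map.trans (Subgroup.map_le_range _ _))
  have h := Subgroup.card_map_of_injective (f := rho) (K := vJ) (rho_inj hcard)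
  rw [e, card_vSub 11 le_rfl] at h
  omega

omit hcard in
theorem vJ_normal : (vJ.subgroupOf jN).Normal := by
  have hle : jN.map rho ≤ Subgroup.normalizer (vSub eU 11 : Set Matˣ) := by
    rw [map_jN, Subgroup.closure_le]
    have hm := normalizer_mSub
    rw [mSub_eq] at hm
    rintro u (rfl | rfl | rfl)
    · exact hm (Subgroup.subset_closure (Or.inl rfl))
    · exact hm (Subgroup.subset_closure (Or.inr rfl))
    · apply Subgroup.le_normalizer
      rw [← eU_zero]
      exact mem_vSub_zero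
  constructor
  intro v hv n
  rw [Subgroup.mem_subgroupOf] at hv ⊢
  show rho ((n : G4) * (v : G4) * (n : G4)⁻¹) ∈ vSub eU 11
  rw [map_mul, map_mul, map_inv]
  exact (Subgroup.mem_normalizer_iff.mp (hle (Subgroup.mem_map_of_mem rho n.2)) _).mp hv
where
  mem_vSub_zero : eU 0 ∈ vSub eU 11 := by
    have hmono : ∀ k, 0 < k → eU 0 ∈ vSub eU k := by
      intro k
      induction k with
      | zero => intro h; omega
      | succ k ih =>
        intro _
        rcases Nat.eq_zero_or_pos k with rfl | h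
        · exact Subgroup.mem_sup_right (Subgroup.mem_zpowers _)
        · exact Subgroup.mem_sup_left (ih h)
    exact hmono 11 (by norm_num)

omit hcard in
theorem vJ_inf : ∀ a, toJ a ∈ vJ → a = 1 := by
  intro a ha
  apply comp_injective
  rw [map_one]
  have : (rho.comp toJ) a ∈ vSub eU 11 ⊓ mSub := ⟨ha, a, rfl⟩
  rwa [inf_eq_bot, Subgroup.mem_bot] at this

/-- there is no normal supplement of the subgroup generated by x, y and s that misses x and y -/
theorem sup_ne_top (K : Subgroup G4) [K.Normal] (hM : K ⊓ toJ.range = ⊥) : K ⊔ jN ≠ ⊤ := by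
  intro htop
  have := finite_G4 hcard
  have := vJ_normal
  haveI : IsSimpleGroup Cfsg.M24 := H90.M24_simple
  haveI : IsSimpleGroup Pres := presEquiv.isSimpleGroup
  let W : Subgroup jN := vJ.subgroupOf jN
  let g : Pres →* jN ⧸ W := (QuotientGroup.mk' W).comp
    (toJ.codRestrict jN fun a => toJ_range_le ⟨a, rfl⟩)
  have hgi : Function.Injective g := by
    rw [injective_iff_map_eq_one]
    intro a ha
    apply vJ_inf
    simpa [g, W, Subgroup.mem_subgroupOf] using ha
  have hq : Nat.card (jN ⧸ W) = 244823040 := by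
    have h := Subgroup.card_mul_index W
    rw [Nat.card_congr (Subgroup.subgroupOfEquivOfLe (vJ_le hcard)).toEquiv, card_vJ hcard,
      card_jN hcard, Subgroup.index] at h
    omega
  have hgb : Function.Bijective g :=
    (Nat.bijective_iff_injective_and_card g).mpr ⟨hgi, by
      rw [hq, Nat.card_congr presEquiv.toEquiv, H90.natCard_M24]⟩
  let e := MulEquiv.ofBijective g hgb
  haveI : IsSimpleGroup (jN ⧸ W) := e.symm.isSimpleGroup
  let R : Subgroup jN := K.subgroupOf jN
  have hRW : R ≤ W := by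
    have hn : (R.map (QuotientGroup.mk' W)).Normal :=
      Subgroup.Normal.map inferInstance _ (QuotientGroup.mk'_surjective W)
    rcases hn.eq_bot_or_eq_top with h | h
    · rwa [Subgroup.map_eq_bot_iff, QuotientGroup.ker_mk'] at h
    · exfalso
      have h1 : 244823040 ∣ Nat.card R := by
        rw [← hq, ← Subgroup.card_top (G := jN ⧸ W), ← h]
        exact Subgroup.card_map_dvd R (QuotientGroup.mk' W)
      have h2 : Nat.card R * 244823040 ∣ 2048 * 244823040 := by
        have hd : K ⊓ jN ⊓ toJ.range = ⊥ := eq_bot_iff.mpr (hM ▸ inf_le_inf_right _ inf_le_left)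
        have hnorm : toJ.range ≤ Subgroup.normalizer ((K ⊓ jN : Subgroup G4) : Set G4) := by
          refine toJ_range_le.trans fun n (hn : n ∈ jN) => Subgroup.mem_normalizer_iff.mpr fun k => ?_
          exact ⟨fun hk => ⟨‹K.Normal›.conj_mem k hk.1 n, jN.mul_mem (jN.mul_mem hn hk.2) (jN.inv_mem hn)⟩,
            fun hk => ⟨by simpa [mul_assoc] using ‹K.Normal›.conj_mem _ hk.1 n⁻¹,
              by simpa [mul_assoc] using jN.mul_mem (jN.mul_mem (jN.inv_mem hn) hk.2) hn⟩⟩
        have hR : Nat.card R = Nat.card ↥(K ⊓ jN) := by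
          rw [← Subgroup.card_map_of_injective (f := jN.subtype) jN.subtype_injective,
            Subgroup.subgroupOf_map_subtype]
        rw [hR, ← card_toJ_range, ← card_sup _ _ hnorm hd, card_toJ_range, ← card_jN hcard]
        exact Subgroup.card_dvd_of_le (sup_le inf_le_right toJ_range_le)
      have h3 : Nat.card R ∣ 2048 := (Nat.mul_dvd_mul_iff_right (by norm_num)).mp h2
      have := Nat.le_of_dvd (by norm_num) (h1.trans h3)
      omega
  let f : jN →* G4 ⧸ K := (QuotientGroup.mk' K).comp jN.subtype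
  have hf : Function.Surjective f := by
    intro q
    obtain ⟨a, rfl⟩ := QuotientGroup.mk'_surjective K q
    have ha : a ∈ ((K ⊔ jN : Subgroup G4) : Set G4) := by rw [htop]; trivial
    rw [Subgroup.normal_mul] at ha
    obtain ⟨k, hk, n, hn, rfl⟩ := ha
    exact ⟨⟨n, hn⟩, by simp [f, (QuotientGroup.eq_one_iff k).mpr hk]⟩
  have hker : f.ker ≤ W := fun n hn => hRW (by
    simpa [f, R, Subgroup.mem_subgroupOf, MonoidHom.mem_ker] using hn)
  let h : G4 ⧸ K →* jN ⧸ W := f.liftOfSurjective hf ⟨QuotientGroup.mk' W, by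
    rwa [QuotientGroup.ker_mk']⟩
  have hh : ∀ n : jN, h (f n) = QuotientGroup.mk' W n := fun n =>
    f.liftOfRightInverse_comp_apply _ (Function.rightInverse_surjInv hf) _ n
  let F : G4 →* Equiv.Perm (Fin 24) :=
    J4Irr.toPerm.comp (e.symm.toMonoidHom.comp (h.comp (QuotientGroup.mk' K)))
  have hF : ∀ a, F (toJ a) = J4Irr.toPerm a := fun a => by
    show J4Irr.toPerm (e.symm (h (f ⟨toJ a, toJ_range_le ⟨a, rfl⟩⟩))) = _
    rw [hh, show QuotientGroup.mk' W ⟨toJ a, toJ_range_le ⟨a, rfl⟩⟩ = e a from rfl,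
      MulEquiv.symm_apply_apply]
  refine J4Irr.no_perm_hom F ?_ ?_
  · show F jX = permX
    rw [← toJ_gA, hF, J4Irr.toPerm_gA]
  · show F jY = permY⁻¹
    have e1 := hF gB
    rw [toJ_gB, map_inv, J4Irr.toPerm_gB] at e1
    rw [← e1, inv_inv]

variable (q : Fin 7 → G4 ⧸ jN) (hcov : ∀ c, ∃ i, c ∈ MulAction.orbit jN (q i))
  (hbnd : ∀ i, Nat.card (MulAction.orbit jN (q i)) ≤ dsize i)

include hcov hbnd

theorem eq_or_eq_top (H : Subgroup G4) (hH : jN ≤ H) : H = jN ∨ H = ⊤ := by
  classical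
  have := finite_G4 hcard
  set A : Set (G4 ⧸ jN) := (QuotientGroup.mk : G4 → G4 ⧸ jN) '' H with hA
  have hidx : Nat.card (G4 ⧸ jN) = 173067389 := by
    have h := Subgroup.card_mul_index jN
    rw [hcard, card_jN hcard, Subgroup.index,
      show (86775571046077562880 : ℕ) = 2048 * 244823040 * 173067389 by norm_num] at h
    exact Nat.eq_of_mul_eq_mul_left (by norm_num) h
  have hinv : ∀ (n : jN) (c : G4 ⧸ jN), c ∈ A → n • c ∈ A := by
    rintro n _ ⟨a, ha, rfl⟩
    exact ⟨(n : G4) * a, mul_mem (hH n.2) ha, rfl⟩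
  let S : Finset (Fin 7) := Finset.univ.filter fun i => q i ∈ A
  have key : Nat.card A = ∑ i ∈ S, dsize i := by
    refine card_union (fun i => MulAction.orbit jN (q i)) dsize hcov hbnd
      (dsize_sum.trans hidx.symm) A S ?_ ?_
    · rintro i hi _ ⟨n, rfl⟩
      exact hinv n _ (Finset.mem_filter.mp hi).2
    · intro c hc
      obtain ⟨i, n, hn⟩ := hcov c
      refine ⟨i, Finset.mem_filter.mpr ⟨Finset.mem_univ _, ?_⟩, n, hn⟩
      have := hinv n⁻¹ c hc
      rwa [← hn, inv_smul_smul] at this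
  have hm := card_mul_of_le hH
  rw [← hA, key, card_jN hcard] at hm
  have hd : (∑ i ∈ S, dsize i) ∣ 173067389 := by
    have h := Subgroup.card_subgroup_dvd_card H
    rw [← hm, hcard, show (86775571046077562880 : ℕ) = 2048 * 244823040 * 173067389 by norm_num]
      at h
    exact (Nat.mul_dvd_mul_iff_left (by norm_num)).mp h
  rcases sums_ok S hd with h1 | h1
  · left
    refine (Subgroup.eq_of_le_of_card_ge hH ?_).symm
    rw [← hm, h1, card_jN hcard, mul_one]
  · right
    refine Subgroup.eq_top_of_card_eq H ?_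
    rw [← hm, h1, hcard]

/-- the presented fourth Janko group is simple -/
theorem isSimple : IsSimpleGroup G4 := by
  have := finite_G4 hcard
  haveI : IsSimpleGroup Cfsg.M24 := H90.M24_simple
  haveI : IsSimpleGroup Pres := presEquiv.isSimpleGroup
  have : Nontrivial G4 := Finite.one_lt_card_iff_nontrivial.mp (by rw [hcard]; norm_num)
  refine ⟨fun K hK => ?_⟩
  have := hK
  by_cases hM : K ⊓ toJ.range = ⊥
  · left
    have hsup : K ⊔ jN = jN :=
      (eq_or_eq_top hcard q hcov hbnd _ le_sup_right).resolve_right (sup_ne_top hcard K hM)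
    have hKN : K ≤ jN := sup_eq_right.mp hsup
    have h2 : Nat.card K ∣ 2 ^ 11 := by
      have h : Nat.card ↥(K ⊔ toJ.range) ∣ Nat.card jN :=
        Subgroup.card_dvd_of_le (sup_le hKN toJ_range_le)
      rw [card_sup_normal K _ hM, card_toJ_range, card_jN hcard] at h
      exact (Nat.mul_dvd_mul_iff_right (by norm_num)).mp h
    obtain ⟨k, -, hk⟩ := (Nat.dvd_prime_pow Nat.prime_two).mp h2
    haveI := Fact.mk Nat.prime_two
    have hp : IsPGroup 2 (K.map rho) := (IsPGroup.of_card hk).map rho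
    have hb : K.map rho = ⊥ := J4Irr.pGroup_trivial _ hp (by
      rintro g hg _ ⟨k, hk', rfl⟩
      obtain ⟨a, rfl⟩ : g ∈ rho.range := by
        rcases hg with rfl | rfl | rfl
        exacts [mem_rho_x, mem_rho_y, mem_rho_t]
      exact ⟨a⁻¹ * k * a, by simpa using hK.conj_mem k hk' a⁻¹, by
        rw [map_mul, map_mul, map_inv]⟩)
    exact (Subgroup.map_eq_bot_iff_of_injective _ (rho_inj hcard)).mp hb
  · right
    haveI : IsSimpleGroup toJ.range := isSimple_range toJ_injective
    have hn : (K.subgroupOf toJ.range).Normal := hK.subgroupOf _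
    rcases hn.eq_bot_or_eq_top with h | h
    · rw [Subgroup.subgroupOf_eq_bot, disjoint_iff] at h; exact absurd h hM
    · rw [Subgroup.subgroupOf_eq_top] at h
      refine normal_eq_top K (h ⟨gA, toJ_gA⟩) ?_
      have := inv_mem (h ⟨gB, rfl⟩ : toJ gB ∈ K)
      rwa [toJ_gB, inv_inv] at this

/-- the presented group is simple of the expected order -/
theorem isJ4 : Cfsg.IsJ4 Cfsg.Spor.J4 := ⟨isSimple hcard q hcov hbnd, hcard⟩

end

end H96.J4Simple
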