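import Mathlib
import Cfsg.Agent.H96.J4Simple.Main

/-!
The presented fourth Janko group is a simple group of the expected order as soon as seven base
cosets with stabilisers of the known indices reach all cosets of the subgroup generated by x, y
and s: the adapter for double coset certificates.
-/

set_option autoImplicit false
set_option maxRecDepth 100000

namespace H96.J4Simple

open H54.J4 H54.J4.Lower

variable {N : Type*} [Group N] [Finite N] (ι : N →* G4) (hι : ι.range = jN)
  (hN : Nat.card N ≤ 2048 * 244823040) (q : Fin 7 → G4 ⧸ ι.range) (St : Fin 7 → Subgroup N)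
  (hfix : ∀ i, ∀ g ∈ St i, ι g • q i = q i) (hidx : ∀ i, (St i).index ≤ dsize i)
  (hcov : ∀ c, ∃ i, ∃ n : N, ι n • q i = c)

include hfix hidx in
theorem orbit_bound (i : Fin 7) :
    Nat.card (MulAction.orbit ι.range (q i)) ≤ dsize i := by
  refine le_trans ?_ (hidx i)
  let f : N ⧸ St i → MulAction.orbit ι.range (q i) := fun x =>
    ⟨ι x.out • q i, ⟨ι x.out, _, rfl⟩, rfl⟩
  refine Nat.card_le_card_of_surjective f fun y => ?_
  obtain ⟨y, ⟨_, n, rfl⟩, rfl⟩ := y
  refine ⟨QuotientGroup.mk n, Subtype.ext ?_⟩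
  obtain ⟨u, hu⟩ := QuotientGroup.mk_out_eq_mul (St i) n
  show ι (QuotientGroup.mk n : N ⧸ St i).out • q i = ι n • q i
  rw [hu, map_mul, mul_smul, hfix i u u.2]

include hι hN hfix hidx hcov

/-- order and simplicity of the presented group from a cover -/
theorem isJ4_of_cover : Cfsg.IsJ4 Cfsg.Spor.J4 := by
  let g : (Σ i : Fin 7, N ⧸ St i) → G4 ⧸ ι.range := fun x => ι x.2.out • q x.1
  have hg : Function.Surjective g := by
    intro c
    obtain ⟨i, n, rfl⟩ := hcov c
    obtain ⟨u, hu⟩ := QuotientGroup.mk_out_eq_mul (St i) n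
    refine ⟨⟨i, QuotientGroup.mk n⟩, ?_⟩
    show ι (QuotientGroup.mk n : N ⧸ St i).out • q i = ι n • q i
    rw [hu, map_mul, mul_smul, hfix i u u.2]
  have : Finite (G4 ⧸ ι.range) := Finite.of_surjective g hg
  have : Finite ι.range := Finite.of_surjective _ ι.rangeRestrict_surjective
  have : Finite G4 := Finite.of_subgroup_quotient ι.range
  have hle : Nat.card G4 ≤ 86775571046077562880 := by
    rw [← Subgroup.card_mul_index ι.range]
    have h1 : Nat.card ι.range ≤ 2048 * 244823040 :=
      (Nat.card_le_card_of_surjective _ ι.rangeRestrict_surjective).trans hN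
    have h2 : ι.range.index ≤ 173067389 := by
      rw [← dsize_sum]
      refine (Nat.card_le_card_of_surjective g hg).trans ?_
      rw [Nat.card_sigma]
      exact Finset.sum_le_sum fun i _ => hidx i
    exact (Nat.mul_le_mul h1 h2).trans (by norm_num)
  have hcard : Nat.card G4 = 86775571046077562880 := le_antisymm hle le_card
  obtain ⟨q', hq'⟩ : ∃ q' : Fin 7 → G4 ⧸ jN,
      (∀ c, ∃ i, c ∈ MulAction.orbit jN (q' i)) ∧
        ∀ i, Nat.card (MulAction.orbit jN (q' i)) ≤ dsize i := by
    rw [← hι]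
    refine ⟨q, fun c => ?_, orbit_bound ι q St hfix hidx⟩
    obtain ⟨i, n, rfl⟩ := hcov c
    exact ⟨i, ⟨ι n, n, rfl⟩, rfl⟩
  exact isJ4 hcard q' hq'.1 hq'.2

end H96.J4Simple
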