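import Mathlib
import Cfsg.Agent.H96.J4Simple.Main

/-!
The index of the subgroup generated by x, y and s in the presented fourth Janko group, from the
order of the group.
-/

set_option autoImplicit false
set_option maxRecDepth 100000

namespace H96.J4Simple

open H54.J4 H54.J4.Lower

/-- the index in terms of the order -/
theorem index_jN (hcard : Nat.card G4 = 86775571046077562880) : jN.index = 173067389 := by
  have h := Subgroup.card_mul_index jN
  rw [hcard, card_jN hcard,
    show (86775571046077562880 : ℕ) = 2048 * 244823040 * 173067389 by norm_num] at h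
  exact Nat.eq_of_mul_eq_mul_left (by norm_num) h

/-- the index as stated with the free generators -/
theorem index_stated (hcard : Nat.card Cfsg.Spor.J4 = 86775571046077562880) :
    (((Subgroup.closure ({Cfsg.Spor.J4.x, Cfsg.Spor.J4.y, (Cfsg.Spor.J4.y * ((Cfsg.Spor.J4.y * Cfsg.Spor.J4.x) ^ 4 * Cfsg.Spor.J4.y⁻¹ * Cfsg.Spor.J4.x)⁻¹ * Cfsg.Spor.J4.t * ((Cfsg.Spor.J4.y * Cfsg.Spor.J4.x) ^ 4 * Cfsg.Spor.J4.y⁻¹ * Cfsg.Spor.J4.x)) ^ 3} : Set (FreeGroup Cfsg.Spor.J4.Gen))).map (PresentedGroup.mk (Cfsg.Spor.coxRelators Cfsg.Spor.J4.edges ∪ {r | r ∈ Cfsg.Spor.J4.extra})))).index = 173067389 :=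
  index_jN hcard

end H96.J4Simple
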